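import Cfsg.Agent.H394.PBTools_m3
import Cfsg.Agent.H488.PBRow.Tits
import Cfsg.Agent.H745.RvTits
import Cfsg.Agent.H678.DG.Tits_m3
import Cfsg.Agent.Prune
set_option linter.all false
prune_inst 0x7f00000000000000000000000000000000000000000000000000000000000000000000000000000000000000000000000000000000000000000000000000000000000000000000000000000000000000003fffffffffffffffffffffffffffbeffbdffffffff
open scoped Cfsg.Agent.FastGrp

/-!
# S4612: the row of the Tits group (helper642)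

Degrees `27`, `351`, `675`, `650`; the centralizers of the Sylow 2-, 3- and 13-subgroups are `p`-groups.
-/

set_option autoImplicit false

open Cfsg

namespace Cfsg.Agent.H642.PQ.Tits

open Cfsg.Agent.H317.PQ Cfsg.Agent.H709.PB Cfsg.Agent.H894.PQ Cfsg.Agent.H745.RvTits Cfsg.Agent.Blocks.Basic
open Cfsg.Agent.Characters.Core

universe u v

theorem nb_equiv {p a : ℕ} {X : Type u} {Y : Type v} [Group X] [Group Y] [Finite X] [Finite Y] (hp : p.Prime)
    (e : X ≃* Y) (h : NB p a X) : NB p a Y := by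
  intro M hM χ hχ
  have hψ : IsIrrCharacter X ((χ : Y → ℂ) ∘ e) := isIrr_comp e.toMonoidHom e.surjective χ.2
  have h1 := h M hM ⟨_, hψ⟩ (fun h2 => by
    rw [← B0_eq hp hM, H766.PQ.mem_B0_equiv (p := p) e (χ := χ) rfl, B0_eq hp hM] at h2
    exact hχ h2)
  have h3 := irr_one_eq_charDegree hψ
  have h4 := irr_one_eq_charDegree χ.2
  rw [Function.comp_apply, map_one, h4] at h3
  have h5 : charDegree (χ : Y → ℂ) = charDegree ((χ : Y → ℂ) ∘ e) := by exact_mod_cast h3
  rw [h5]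
  exact h1

theorem deg {S : Type u} [Group S] (e : S ≃* Cfsg.Lie.TitsGroup) {d : ℕ}
    (h : ∃ χ : IrrCharacter Cfsg.Agent.SporadicB.RuTits.T, charDegree (χ : Cfsg.Agent.SporadicB.RuTits.T → ℂ) = d) :
    ∃ χ : IrrCharacter S, charDegree (χ : S → ℂ) = d := by
  obtain ⟨f⟩ := H707.RowTits.equiv
  exact H805.K4.Tits.exists_of_equiv (e.trans f) h

theorem nb3 {X : Type} [Group X] [Finite X] (D : TT X) (D' : H87.TitsAbs.Dat X) (O : CpAutTits.Row.Out X) :
    NB 3 1 X := by
  have : Fact (Nat.Prime 3) := ⟨by norm_num⟩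
  have hC := card_cent_of D' O D.z3 D.z1
  refine NB.of_sylow (D.T O.card) ?_
  exact D.p3.to_le (D.cent_le_R O.card hC)

theorem nb2 {S : Type u} [Group S] [Finite S] (T : H488.PBRow.TitsOrd S) : NB 2 1 S :=
  (T.nb2).mono (by norm_num)

theorem nb13 {S : Type u} [Group S] [Finite S] (T : H488.PBRow.TitsOrd S) : NB 13 1 S := by
  have : Fact (Nat.Prime 13) := ⟨by norm_num⟩
  obtain ⟨x, hx⟩ := exists_prime_orderOf_dvd_card' (G := S) 13 (by rw [T.card]; norm_num)
  exact T.nb13 hx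

theorem row_gen {S : Type u} [Group S] [Finite S] (e : S ≃* Cfsg.Lie.TitsGroup) (T : H488.PBRow.TitsOrd S)
    (n3 : NB 3 1 S) : Row S := by
  obtain ⟨χa, ha⟩ := deg e H805.K4.Tits.deg_27
  obtain ⟨χb, hb⟩ := deg e H805.K4.Tits.deg_351
  obtain ⟨χc, hc⟩ := deg e H805.K4.Tits.deg_675
  obtain ⟨χd, hd⟩ := deg e H678.DG.Tits.deg_650
  have cG := T.card
  have h3 : 3 ^ 3 ∣ Nat.card S := by rw [cG]; norm_num
  have h3' : ¬ 3 ^ (3 + 1) ∣ Nat.card S := by rw [cG]; norm_num
  have h5 : 5 ^ 2 ∣ Nat.card S := by rw [cG]; norm_num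
  have h5' : ¬ 5 ^ (2 + 1) ∣ Nat.card S := by rw [cG]; norm_num
  have h13 : 13 ^ 1 ∣ Nat.card S := by rw [cG]; norm_num
  have h13' : ¬ 13 ^ (1 + 1) ∣ Nat.card S := by rw [cG]; norm_num
  have k23 : ¬ Same 2 3 S :=
    kill (by norm_num) (by norm_num) (nb2 T) ha (by norm_num) (by norm_num) (by norm_num) h3 h3'
  have k25 : ¬ Same 2 5 S :=
    kill (by norm_num) (by norm_num) (nb2 T) hc (by norm_num) (by norm_num) (by norm_num) h5 h5'
  have k213 : ¬ Same 2 13 S :=
    kill (by norm_num) (by norm_num) (nb2 T) hb (by norm_num) (by norm_num) (by norm_num) h13 h13'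
  have k35 : ¬ Same 3 5 S := kill (by norm_num) (by norm_num) n3 hd (by norm_num) (by norm_num) (by norm_num) h5 h5'
  have k133 : ¬ Same 13 3 S :=
    kill (by norm_num) (by norm_num) (nb13 T) ha (by norm_num) (by norm_num) (by norm_num) h3 h3'
  have k135 : ¬ Same 13 5 S :=
    kill (by norm_num) (by norm_num) (nb13 T) hc (by norm_num) (by norm_num) (by norm_num) h5 h5'
  have hcases : ∀ p : ℕ, p.Prime → p ∣ Nat.card S → p = 2 ∨ p = 3 ∨ p = 5 ∨ p = 13 := by
    intro p hp hd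
    rw [cG, show 17971200 = 2 ^ 11 * (3 ^ 3 * (5 ^ 2 * 13)) by norm_num, hp.dvd_mul, hp.dvd_mul, hp.dvd_mul] at hd
    rcases hd with h | h | h | h
    · exact Or.inl ((Nat.prime_dvd_prime_iff_eq hp (by norm_num)).1 (hp.dvd_of_dvd_pow h))
    · exact Or.inr (Or.inl ((Nat.prime_dvd_prime_iff_eq hp (by norm_num)).1 (hp.dvd_of_dvd_pow h)))
    · exact Or.inr (Or.inr (Or.inl ((Nat.prime_dvd_prime_iff_eq hp (by norm_num)).1 (hp.dvd_of_dvd_pow h))))
    · exact Or.inr (Or.inr (Or.inr ((Nat.prime_dvd_prime_iff_eq hp (by norm_num)).1 h)))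
  apply Row.of_lt
  intro p q hp hq hpq hpG hqG
  rcases hcases p hp hpG with rfl | rfl | rfl | rfl <;> rcases hcases q hq hqG with rfl | rfl | rfl | rfl <;>
    first
      | assumption
      | exact fun h => k133 h.symm
      | exact fun h => k135 h.symm
      | omega

theorem row_gen' {X : Type} [Group X] [Finite X] (h : Cfsg.Lie.IsoTits X) (D : TT X)
    (D' : H87.TitsAbs.Dat X) (O : CpAutTits.Row.Out X) : Row X := by
  have T := H488.PBRow.titsOrd h
  obtain ⟨e⟩ := h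
  exact row_gen e T (nb3 D D' O)

theorem row_trans {X : Type v} [Group X] (h : Row X) {S : Type u} [Group S] (e : S ≃* X) : Row S :=
  H766.PQ.Row.of_equiv e.symm h

/-- **The Tits group** -/
theorem row_tits {S : Type u} [Group S] (h : Cfsg.Lie.IsoTits S) : Row S := by
  obtain ⟨D⟩ := tt_tits
  obtain ⟨D'⟩ := H87.TitsData.dat_tits
  have O : CpAutTits.Row.Out Cfsg.Lie.TitsGroup := CpAutTits.Row.out ⟨MulEquiv.refl _⟩
  have hfin : Finite Cfsg.Lie.TitsGroup := Nat.finite_of_card_ne_zero (by rw [O.card]; norm_num)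
  have h1 : Row Cfsg.Lie.TitsGroup := row_gen' ⟨MulEquiv.refl _⟩ D D' O
  obtain ⟨e⟩ := h
  exact row_trans h1 e

end Cfsg.Agent.H642.PQ.Tits
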